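import Groth.Prelude.Def_RedSub
import Groth.Prelude.Def_Canon
import Groth.Agent.Lib.OmegaFree.Basic
import Groth.Agent.Lib.TensorGen.Det
import Groth.Agent.Lib.Chow.Projective
import Groth.Agent.Lib.SecComp6.Smooth
import Groth.Agent.Lib.Seesaw26.Main
import Groth.Agent.Lib.Seesaw26.FieldFunctions
import Groth.Agent.Lib.Ample.Functorial
import Mathlib

/-!
# Locally projective smooth morphisms and their canonical modules
-/

set_option autoImplicit false
set_option linter.all false
set_option backward.isDefEq.respectTransparency false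

universe u

open CategoryTheory CategoryTheory.Limits AlgebraicGeometry TopologicalSpace Opposite

noncomputable section

namespace GrothLib.CanonTriv

/-- Locally projective morphisms are proper. -/
theorem isProper_of_isLocallyProjective {X S : Scheme.{u}} (f : X ⟶ S)
    (h : RedSub.IsLocallyProjective (Over.mk f)) : IsProper f := by
  choose V hV n e he hfac using h
  refine IsZariskiLocalAtTarget.of_iSup_eq_top (P := @IsProper) V
    (top_le_iff.1 fun s _ => Opens.mem_iSup.2 ⟨s, hV s⟩) fun s => ?_
  haveI := he s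
  haveI : IsProper (CohB1.ProjSpaceOver.toBase (n s) (V s : Scheme.{u})) := GrothLib.Chow.isProper_toBase _ _
  haveI : IsProper (Red.bc (V s).ι (Over.mk f)).hom := hfac s ▸ inferInstance
  haveI : IsProper (pullback.snd f (V s).ι) := ‹IsProper (Red.bc (V s).ι (Over.mk f)).hom›
  rw [← (isPullback_morphismRestrict f (V s)).flip.isoPullback_hom_snd]
  infer_instance

/-- The differentials of a smooth morphism are locally free. -/
theorem isFinLocFreeOfRank_sheaf {X S : Scheme.{u}} [IsLocallyNoetherian X] (f : X ⟶ S) [QuasiSeparated f]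
    (n : ℕ) [hsm : SmoothOfRelativeDimension n f] : FlatMod.IsFinLocFreeOfRank n (Omega.sheaf f) := by
  haveI : Smooth f := SmoothOfRelativeDimension.smooth n f
  have hcoh : Coh.IsCoh (Omega.sheaf f) :=
    ⟨GrothLib.OmegaSheaf.isQuasicoherent_sheaf f, GrothLib.OmegaSheaf.isFT_sheaf f⟩
  refine GrothLib.OmegaFree.isFinLocFreeOfRank_of_free_stalks hcoh n fun x => ?_
  obtain ⟨U, hU, V, hV, hxV, e, hstd⟩ := hsm.exists_isStandardSmoothOfRelativeDimension x
  letI := (f.appLE U V e).hom.toAlgebra
  haveI : Algebra.IsStandardSmoothOfRelativeDimension n Γ(S, U) Γ(X, V) := hstd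
  haveI : Nonempty V := ⟨⟨x, hxV⟩⟩
  haveI : Algebra.IsStandardSmooth Γ(S, U) Γ(X, V) :=
    Algebra.IsStandardSmoothOfRelativeDimension.isStandardSmooth n
  obtain ⟨ε⟩ := GrothLib.OmegaSheaf.nonempty_sections_equiv f hV hU e
  have hfr : Module.finrank Γ(X, V) (Ω[Γ(X, V)⁄Γ(S, U)]) = n :=
    Module.finrank_eq_of_rank_eq (Algebra.IsStandardSmoothOfRelativeDimension.rank_kaehlerDifferential n)
  let b := ((Module.finBasisOfFinrankEq _ _ hfr).map ε.symm)
  haveI := GrothLib.OmegaSheaf.isQuasicoherent_sheaf f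
  letI := X.presheaf.algebra_section_stalk ⟨x, hxV⟩
  letI : Module Γ(X, V) ((Omega.sheaf f).presheaf.stalk x) := Module.compHom _ (X.presheaf.germ V x hxV).hom
  haveI : IsScalarTower Γ(X, V) (X.presheaf.stalk x) ((Omega.sheaf f).presheaf.stalk x) :=
    IsScalarTower.of_algebraMap_smul fun _ _ => rfl
  haveI := GrothLib.FlatFP.isLocalization_stalk_primeAt hV hxV
  obtain ⟨g, hg, -⟩ := GrothLib.FlatFP.isLocalizedModule_germ (F := Omega.sheaf f) hV hxV
  haveI := hg
  exact ⟨b.ofIsLocalizedModule (X.presheaf.stalk x) (GrothLib.WeakAss.primeAt x hxV).primeCompl g⟩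

/-- The top exterior power of a locally free module of that rank is invertible. -/
theorem isInvertible_of_isExtPow {X : Scheme.{u}} {F L : X.Modules} {n : ℕ}
    (hF : FlatMod.IsFinLocFreeOfRank n F) (hL : ExtPow.IsExtPow n F L) : PicF.IsInvertible L := by
  refine InvExt.isInvertible_of_gens fun x => ?_
  obtain ⟨T, e, hxT, he⟩ := FinCov.exists_frame_nhd_of_rank hF x
  obtain ⟨A, hA, hxA, hAT⟩ := exists_isAffineOpen_mem_and_subset (U := T) (x := x) hxT
  obtain ⟨φ, hφ⟩ := hL
  exact ⟨A, _, hxA, TensorGen.isGen_wedge hφ (U := ⟨A, hA⟩) (TensorGen.isFrame_restrict he hAT)⟩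

variable {X S : Scheme.{u}} [IsLocallyNoetherian S] (f : X ⟶ S) (hproj : RedSub.IsLocallyProjective (Over.mk f))
  (n : ℕ) [SmoothOfRelativeDimension n f] [GeometricallyConnected f]
  (ω : X.Modules) (hω : Canon.IsTopDiff f n ω) (m : ℕ)

include hproj n in
theorem isProper_and_flat : IsProper f ∧ Flat f ∧ LocallyOfFinitePresentation f ∧ IsLocallyNoetherian X ∧
    (∀ y : S, Module.finrank (S.residueField y) Γ(f.fiber y, ⊤) = 1) := by
  haveI := isProper_of_isLocallyProjective f hproj
  haveI : Smooth f := SmoothOfRelativeDimension.smooth n f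
  haveI := GrothLib.SecComp6.geometricallyReduced_of_smooth f
  exact ⟨‹_›, inferInstance, inferInstance, LocallyOfFiniteType.isLocallyNoetherian f,
    fun y => Seesaw26.finrank_fiber_functions_eq_one f y⟩

include hproj hω in
theorem isInvertible_tensorPow_canonical : PicF.IsInvertible (CohB1.tensorPow ω m) := by
  obtain ⟨_, _, _, _, -⟩ := isProper_and_flat f hproj n
  exact Ample.isInvertible_tensorPow (isInvertible_of_isExtPow (isFinLocFreeOfRank_sheaf f n) hω) m

end GrothLib.CanonTriv
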